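import Groth.Agent.Lib.AlgColimH13.Basic

set_option autoImplicit false
universe u
open CategoryTheory CategoryTheory.Limits AlgebraicGeometry

noncomputable section

namespace Groth.Agent.AlgColimH13

variable (A B : Type u) [CommRing A] [CommRing B] [Algebra A B]

/-- structure map of a stage -/
def str (i : Idx A B) : CommRingCat.of A ⟶ (ringDiag A B).obj i :=
  CommRingCat.ofHom (algebraMap A i.Ring)

theorem str_map {i j : Idx A B} (f : i ⟶ j) : str A B i ≫ (ringDiag A B).map f = str A B j := by
  refine CommRingCat.hom_ext (RingHom.ext fun a => ?_)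
  exact (Idx.trans (leOfHom f)).commutes a

/-- projection to `B` -/
def proj (i : Idx A B) : (ringDiag A B).obj i ⟶ CommRingCat.of B :=
  CommRingCat.ofHom i.toB.toRingHom

theorem str_proj (i : Idx A B) : str A B i ≫ proj A B i = CommRingCat.ofHom (algebraMap A B) := by
  refine CommRingCat.hom_ext (RingHom.ext fun a => ?_)
  exact i.toB.commutes a

theorem map_proj {i j : Idx A B} (f : i ⟶ j) : (ringDiag A B).map f ≫ proj A B j = proj A B i := by
  refine CommRingCat.hom_ext (RingHom.ext fun x => ?_)
  exact Idx.toB_trans (leOfHom f) x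

/-- `Spec` of the system, over an open immersion target -/
def specDiag {T : Scheme.{u}} (ψ : Spec (CommRingCat.of A) ⟶ T) : (Idx A B)ᵒᵖ ⥤ Over T where
  obj i := Over.mk (Spec.map (str A B i.unop) ≫ ψ)
  map {i j} f := Over.homMk (Spec.map ((ringDiag A B).map f.unop)) (by
    show Spec.map ((ringDiag A B).map f.unop) ≫ Spec.map (str A B j.unop) ≫ ψ =
      Spec.map (str A B i.unop) ≫ ψ
    rw [← Category.assoc, ← Spec.map_comp, str_map])
  map_id i := by ext1; simp
  map_comp f g := by ext1; simp

instance {T : Scheme.{u}} (ψ : Spec (CommRingCat.of A) ⟶ T) (i : (Idx A B)ᵒᵖ) :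
    IsAffine ((specDiag A B ψ).obj i).left := inferInstanceAs (IsAffine (Spec _))

def specCone {T : Scheme.{u}} (ψ : Spec (CommRingCat.of A) ⟶ T) : Cone (specDiag A B ψ) where
  pt := Over.mk (Spec.map (CommRingCat.ofHom (algebraMap A B)) ≫ ψ)
  π :=
    { app := fun i => Over.homMk (Spec.map (proj A B i.unop)) (by
        show Spec.map (proj A B i.unop) ≫ Spec.map (str A B i.unop) ≫ ψ =
          Spec.map (CommRingCat.ofHom (algebraMap A B)) ≫ ψ
        rw [← Category.assoc, ← Spec.map_comp, str_proj])
      naturality := fun i j f => by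
        ext1
        show 𝟙 _ ≫ Spec.map (proj A B j.unop) =
          Spec.map (proj A B i.unop) ≫ Spec.map ((ringDiag A B).map f.unop)
        rw [Category.id_comp, ← Spec.map_comp, map_proj] }

attribute [local instance] IsCofiltered.isConnected

def specIsLimit {T : Scheme.{u}} (ψ : Spec (CommRingCat.of A) ⟶ T) :
    IsLimit (specCone A B ψ) :=
  isLimitOfReflects (Over.forget T)
    (isLimitOfPreserves Scheme.Spec (ringIsColimit A B).op)

end Groth.Agent.AlgColimH13
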