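import Mathlib

set_option autoImplicit false
set_option linter.unusedSectionVars false
universe u
open CategoryTheory CategoryTheory.Limits MvPolynomial

noncomputable section

namespace Groth.Agent.AlgColimH13

variable (A B : Type u) [CommRing A] [CommRing B] [Algebra A B]

/-- the evaluation `A[B] → B` -/
def ev : MvPolynomial B A →ₐ[A] B := MvPolynomial.aeval id

/-- finite presentations mapping to `B` -/
structure Idx : Type u where
  gens : Finset B
  rels : Finset (MvPolynomial B A)
  rels_le : ∀ p ∈ rels, ev A B p = 0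

variable {A B}

instance : Preorder (Idx A B) where
  le i j := i.gens ⊆ j.gens ∧ i.rels ⊆ j.rels
  le_refl i := ⟨Finset.Subset.refl _, Finset.Subset.refl _⟩
  le_trans i j k h h' := ⟨h.1.trans h'.1, h.2.trans h'.2⟩

instance : Nonempty (Idx A B) := ⟨⟨∅, ∅, by simp⟩⟩

instance : IsDirected (Idx A B) (· ≤ ·) := ⟨fun i j => by
  classical
  exact ⟨⟨i.gens ∪ j.gens, i.rels ∪ j.rels, fun p hp => (Finset.mem_union.1 hp).elim (i.rels_le p) (j.rels_le p)⟩,
    ⟨Finset.subset_union_left, Finset.subset_union_left⟩,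
    ⟨Finset.subset_union_right, Finset.subset_union_right⟩⟩⟩

abbrev Idx.Pol (i : Idx A B) : Type u := MvPolynomial {b : B // b ∈ i.gens} A

def Idx.incl (i : Idx A B) : i.Pol →ₐ[A] MvPolynomial B A := rename Subtype.val

theorem Idx.incl_injective (i : Idx A B) : Function.Injective i.incl :=
  rename_injective _ Subtype.val_injective

def Idx.relSet (i : Idx A B) : Set i.Pol := {q | i.incl q ∈ i.rels}

theorem Idx.relSet_finite (i : Idx A B) : i.relSet.Finite :=
  i.rels.finite_toSet.preimage i.incl_injective.injOn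

def Idx.ideal (i : Idx A B) : Ideal i.Pol := Ideal.span i.relSet

theorem Idx.ideal_fg (i : Idx A B) : i.ideal.FG := Submodule.fg_span i.relSet_finite

abbrev Idx.Ring (i : Idx A B) : Type u := i.Pol ⧸ i.ideal

instance (i : Idx A B) : Algebra.FinitePresentation A i.Ring :=
  Algebra.FinitePresentation.quotient i.ideal_fg

def Idx.polMap {i j : Idx A B} (h : i ≤ j) : i.Pol →ₐ[A] j.Pol :=
  rename fun b => ⟨b.1, h.1 b.2⟩

theorem Idx.incl_polMap {i j : Idx A B} (h : i ≤ j) (q : i.Pol) :
    j.incl (Idx.polMap h q) = i.incl q := by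
  rw [Idx.incl, Idx.polMap, rename_rename]; rfl

theorem Idx.ideal_le {i j : Idx A B} (h : i ≤ j) :
    i.ideal ≤ j.ideal.comap (Idx.polMap h) := by
  refine Ideal.span_le.2 fun q hq => ?_
  refine Ideal.subset_span ?_
  show j.incl (Idx.polMap h q) ∈ j.rels
  rw [Idx.incl_polMap]
  exact h.2 hq

def Idx.trans {i j : Idx A B} (h : i ≤ j) : i.Ring →ₐ[A] j.Ring :=
  Ideal.quotientMapₐ _ (Idx.polMap h) (Idx.ideal_le h)

def Idx.evPol (i : Idx A B) : i.Pol →ₐ[A] B := (ev A B).comp i.incl

theorem Idx.evPol_X (i : Idx A B) (b : {b : B // b ∈ i.gens}) : i.evPol (X b) = b.1 := by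
  simp [Idx.evPol, Idx.incl, ev]

def Idx.toB (i : Idx A B) : i.Ring →ₐ[A] B :=
  Ideal.Quotient.liftₐ i.ideal i.evPol fun q hq => by
    have : i.ideal ≤ RingHom.ker i.evPol.toRingHom :=
      Ideal.span_le.2 fun r hr => i.rels_le _ hr
    exact this hq

@[simp] theorem Idx.toB_mk (i : Idx A B) (q : i.Pol) :
    i.toB (Ideal.Quotient.mk i.ideal q) = i.evPol q := rfl

@[simp] theorem Idx.trans_mk {i j : Idx A B} (h : i ≤ j) (q : i.Pol) :
    Idx.trans h (Ideal.Quotient.mk i.ideal q) = Ideal.Quotient.mk j.ideal (Idx.polMap h q) := rfl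

theorem Idx.toB_trans {i j : Idx A B} (h : i ≤ j) (x : i.Ring) :
    j.toB (Idx.trans h x) = i.toB x := by
  obtain ⟨q, rfl⟩ := Ideal.Quotient.mk_surjective x
  simp [Idx.evPol, Idx.incl_polMap]

theorem exists_toB_eq (b : B) : ∃ (i : Idx A B) (x : i.Ring), i.toB x = b :=
  ⟨⟨{b}, ∅, by simp⟩, Ideal.Quotient.mk _ (X ⟨b, by simp⟩), by rw [Idx.toB_mk, Idx.evPol_X]⟩

theorem exists_trans_eq {i : Idx A B} (x y : i.Ring) (h : i.toB x = i.toB y) :
    ∃ (j : Idx A B) (hij : i ≤ j), Idx.trans hij x = Idx.trans hij y := by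
  classical
  obtain ⟨q, rfl⟩ := Ideal.Quotient.mk_surjective x
  obtain ⟨r, rfl⟩ := Ideal.Quotient.mk_surjective y
  have h0 : ev A B (i.incl (q - r)) = 0 := by
    simpa [Idx.evPol, sub_eq_zero] using h
  let j : Idx A B := ⟨i.gens, insert (i.incl (q - r)) i.rels, fun p hp => by
    rcases Finset.mem_insert.1 hp with rfl | hp
    · exact h0
    · exact i.rels_le p hp⟩
  have hij : i ≤ j := ⟨Finset.Subset.refl _, Finset.subset_insert _ _⟩
  refine ⟨j, hij, ?_⟩
  rw [Idx.trans_mk, Idx.trans_mk, Ideal.Quotient.eq, ← map_sub]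
  refine Ideal.subset_span ?_
  show j.incl (Idx.polMap hij (q - r)) ∈ j.rels
  rw [Idx.incl_polMap]
  exact Finset.mem_insert_self _ _

variable (A B)

/-- the system in `CommRingCat` -/
def ringDiag : Idx A B ⥤ CommRingCat.{u} where
  obj i := CommRingCat.of i.Ring
  map f := CommRingCat.ofHom (Idx.trans (leOfHom f)).toRingHom
  map_id i := by
    refine CommRingCat.hom_ext (RingHom.ext fun x => ?_)
    obtain ⟨q, rfl⟩ := Ideal.Quotient.mk_surjective x
    show Ideal.Quotient.mk i.ideal (Idx.polMap (le_refl i) q) = _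
    have : Idx.polMap (le_refl i) q = q := by
      show rename id q = q
      exact rename_id_apply q
    rw [this]; rfl
  map_comp {i j k} f g := by
    refine CommRingCat.hom_ext (RingHom.ext fun x => ?_)
    obtain ⟨q, rfl⟩ := Ideal.Quotient.mk_surjective x
    show Ideal.Quotient.mk k.ideal (Idx.polMap (leOfHom (f ≫ g)) q) =
      Ideal.Quotient.mk k.ideal (Idx.polMap (leOfHom g) (Idx.polMap (leOfHom f) q))
    simp [Idx.polMap, rename_rename, Function.comp_def]

/-- the system in `Under A` -/
def diag : Idx A B ⥤ Under (CommRingCat.of A) where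
  obj i := Under.mk (CommRingCat.ofHom (algebraMap A i.Ring))
  map {i j} f := Under.homMk ((ringDiag A B).map f)
    (by ext a; exact (Idx.trans (leOfHom f)).commutes a)
  map_id i := by ext1; exact (ringDiag A B).map_id i
  map_comp f g := by ext1; exact (ringDiag A B).map_comp f g

def cocone : Cocone (diag A B) where
  pt := Under.mk (CommRingCat.ofHom (algebraMap A B))
  ι :=
    { app := fun i => Under.homMk (CommRingCat.ofHom i.toB.toRingHom)
        (by ext a; exact i.toB.commutes a)
      naturality := fun i j f => by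
        ext1; ext x; exact Idx.toB_trans (leOfHom f) x }

attribute [local instance] IsFiltered.isConnected

def ringIsColimit : IsColimit ((Under.forget _).mapCocone (cocone A B)) := by
  haveI : ReflectsColimitsOfShape (Idx A B) (forget CommRingCat.{u}) :=
    reflectsColimitsOfShape_of_reflectsIsomorphisms
  refine isColimitOfReflects (forget CommRingCat.{u}) ?_
  refine Types.FilteredColimit.isColimitOf' _ _ (fun b => ?_) (fun i x y h => ?_)
  · obtain ⟨i, x, hx⟩ := exists_toB_eq (A := A) (B := B) b
    exact ⟨i, x, hx.symm⟩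
  · obtain ⟨j, hij, hj⟩ := exists_trans_eq (i := i) x y h
    exact ⟨j, homOfLE hij, hj⟩

def isColimit : IsColimit (cocone A B) :=
  isColimitOfReflects (Under.forget _) (ringIsColimit A B)

variable {A B}

/-- an algebra retract of a finitely presented algebra is finitely presented -/
theorem finitePresentation_of_retract {C : Type u} [CommRing C] [Algebra A C]
    [Algebra.FinitePresentation A C] (p : C →ₐ[A] B) (s : B →ₐ[A] C)
    (hps : ∀ b, p (s b) = b) : Algebra.FinitePresentation A B := by
  classical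
  have hp : Function.Surjective p := fun b => ⟨s b, hps b⟩
  obtain ⟨S, hS⟩ := (Algebra.FiniteType.out : (⊤ : Subalgebra A C).FG)
  let e : C →ₐ[A] C := s.comp p
  let I : Ideal C := Ideal.span ↑(S.image fun x => x - e x)
  have hI : I ≤ RingHom.ker p.toRingHom := by
    refine Ideal.span_le.2 fun y hy => ?_
    obtain ⟨x, _, rfl⟩ := Finset.mem_image.1 (Finset.mem_coe.1 hy)
    show p (x - e x) = 0
    simp [e, hps]
  have hker : RingHom.ker p.toRingHom = I := by
    refine le_antisymm (fun c hc => ?_) hI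
    have heq : (Ideal.Quotient.mkₐ A I) = (Ideal.Quotient.mkₐ A I).comp e := by
      refine AlgHom.ext_of_adjoin_eq_top hS fun x hx => ?_
      show Ideal.Quotient.mk I x = Ideal.Quotient.mk I (e x)
      rw [Ideal.Quotient.eq]
      exact Ideal.subset_span (Finset.mem_coe.2 (Finset.mem_image.2 ⟨x, hx, rfl⟩))
    have hc' : p c = 0 := hc
    have := AlgHom.congr_fun heq c
    simp [e, hc'] at this
    exact Ideal.Quotient.eq_zero_iff_mem.1 this
  exact Algebra.FinitePresentation.of_surjective hp ⟨S.image fun x => x - e x, hker.symm⟩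

end Groth.Agent.AlgColimH13
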